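import Mathlib.RingTheory.GradedAlgebra.Radical
import Mathlib.RingTheory.GradedAlgebra.Homogeneous.Ideal
import Mathlib.RingTheory.Ideal.Operations
import Mathlib.Data.Finset.Max
import Mathlib.Order.Preorder.Finite

/-! Homogeneous prime avoidance in an `ℕ`-graded ring. -/

set_option autoImplicit false
universe u v

namespace Groth.Agent.GrAvoid

variable {A : Type u} {σ : Type v} [CommRing A] [SetLike σ A] [AddSubmonoidClass σ A] (𝒜 : ℕ → σ) [GradedRing 𝒜]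

theorem exists_homogeneous_notMem {J p : Ideal A} (hJ : J.IsHomogeneous 𝒜) (h : ¬ J ≤ p) :
    ∃ (z : A) (n : ℕ), z ∈ 𝒜 n ∧ z ∈ J ∧ z ∉ p := by
  classical
  obtain ⟨x, hxJ, hxp⟩ := SetLike.not_le_iff_exists.1 h
  by_contra hne
  push Not at hne
  refine hxp ?_
  rw [← DirectSum.sum_support_decompose 𝒜 x]
  exact Submodule.sum_mem _ fun i _ => hne _ i (SetLike.coe_mem _) (hJ i hxJ)

theorem exists_notMem (J : Ideal A) (hJ : J.IsHomogeneous 𝒜) (P : Finset (Ideal A))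
    (hP : ∀ p ∈ P, p.IsPrime ∧ ¬ (HomogeneousIdeal.irrelevant 𝒜).toIdeal ≤ p ∧ ¬ J ≤ p) :
    ∃ (z : A) (n : ℕ), 0 < n ∧ z ∈ 𝒜 n ∧ z ∈ J ∧ ∀ p ∈ P, z ∉ p := by
  classical
  let core : Ideal A → Ideal A := fun p => (p.homogeneousCore 𝒜).toIdeal
  let Q : Finset (Ideal A) := (P.image core).filter fun q => ∀ q' ∈ P.image core, q ≤ q' → q = q'
  have hQ : ∀ q ∈ Q, ∃ p ∈ P, core p = q := fun q hq => Finset.mem_image.1 (Finset.mem_filter.1 hq).1
  have hprime : ∀ q ∈ Q, q.IsPrime := fun q hq => by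
    obtain ⟨p, hp, rfl⟩ := hQ q hq
    exact (hP p hp).1.homogeneousCore
  have hg : ∀ q ∈ Q, ∃ (g : A) (n : ℕ), 0 < n ∧ g ∈ 𝒜 n ∧ g ∈ J ∧ g ∉ q ∧ ∀ q' ∈ Q, q' ≠ q → g ∈ q' := by
    intro q hq
    obtain ⟨p, hp, hpq⟩ := hQ q hq
    obtain ⟨-, hirr, hJp⟩ := hP p hp
    have hle : q ≤ p := hpq ▸ Ideal.toIdeal_homogeneousCore_le 𝒜 p
    obtain ⟨a, i, ha, haJ, hap⟩ := exists_homogeneous_notMem 𝒜 hJ hJp
    obtain ⟨b, j, hb, hbirr, hbp⟩ := exists_homogeneous_notMem 𝒜 (HomogeneousIdeal.irrelevant 𝒜).isHomogeneous hirr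
    have hj : 0 < j := by
      refine Nat.pos_of_ne_zero fun h0 => hbp ?_
      subst h0
      have h1 : GradedRing.proj 𝒜 0 b = 0 := hbirr
      rw [GradedRing.proj_apply, DirectSum.decompose_of_mem_same 𝒜 hb] at h1
      exact h1 ▸ p.zero_mem
    have hw : ∀ q' : Q, ∃ (w : A) (n : ℕ), w ∈ 𝒜 n ∧ w ∉ q ∧ (q'.1 ≠ q → w ∈ q'.1) := by
      rintro ⟨q', hq'⟩
      by_cases hne : q' = q
      · exact ⟨1, 0, SetLike.one_mem_graded 𝒜, (Ideal.ne_top_iff_one q).1 (hprime q hq).ne_top, fun h => absurd hne h⟩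
      · obtain ⟨p', -, hpq'⟩ := hQ q' hq'
        have hnle : ¬ q' ≤ q := fun h => hne ((Finset.mem_filter.1 hq').2 q (Finset.mem_filter.1 hq).1 h)
        obtain ⟨w, n, hw, hwq', hwq⟩ := exists_homogeneous_notMem 𝒜 (hpq' ▸ (p'.homogeneousCore 𝒜).isHomogeneous : q'.IsHomogeneous 𝒜) hnle
        exact ⟨w, n, hw, hwq, fun _ => hwq'⟩
    choose w dw hw hwq hwq' using hw
    refine ⟨a * b * ∏ q' : Q, w q', i + j + ∑ q' : Q, dw q', by omega,
      SetLike.mul_mem_graded (SetLike.mul_mem_graded ha hb) (SetLike.prod_mem_graded (A := 𝒜) dw w (fun k _ => hw k)),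
      Ideal.mul_mem_right _ _ (Ideal.mul_mem_right _ _ haJ), fun h => ?_, fun q' hq' hne => ?_⟩
    · have := hprime q hq
      rcases this.mem_or_mem h with h | h
      · exact (this.mem_or_mem h).elim (fun h => hap (hle h)) fun h => hbp (hle h)
      · obtain ⟨k, -, hk⟩ := Ideal.IsPrime.prod_mem_iff.1 h
        exact hwq k hk
    · exact Ideal.mul_mem_left _ _ (Ideal.prod_mem _ (Finset.mem_univ (⟨q', hq'⟩ : Q)) (hwq' ⟨q', hq'⟩ hne))
  choose g d hd hg hgJ hgq hgq' using hg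
  let D := ∏ q : Q, d q.1 q.2
  have hD : 0 < D := Finset.prod_pos fun q _ => hd _ _
  let e : Q → ℕ := fun q => D / d q.1 q.2
  have he : ∀ q : Q, e q * d q.1 q.2 = D := fun q => Nat.div_mul_cancel (Finset.dvd_prod_of_mem (fun q : Q => d q.1 q.2) (Finset.mem_univ q))
  have he0 : ∀ q : Q, 0 < e q := fun q => Nat.pos_of_ne_zero fun h => by have := he q; rw [h, zero_mul] at this; omega
  let z := ∑ q : Q, g q.1 q.2 ^ e q
  have hz : z ∈ 𝒜 D := sum_mem fun q _ => by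
    have h1 := SetLike.pow_mem_graded (A := 𝒜) (e q) (hg q.1 q.2)
    rwa [smul_eq_mul, he q] at h1
  refine ⟨z, D, hD, hz, Submodule.sum_mem _ fun q _ => Ideal.pow_mem_of_mem _ (hgJ _ _) _ (he0 q), fun p hp hzp => ?_⟩
  obtain ⟨q, hle, hq⟩ := (P.image core).exists_le_maximal (Finset.mem_image_of_mem core hp)
  have hqQ : q ∈ Q := Finset.mem_filter.2 ⟨hq.1, fun q' hq' h => le_antisymm h (hq.2 hq' h)⟩
  have hzc : z ∈ core p := Ideal.mem_homogeneousCore_of_homogeneous_of_mem ⟨D, hz⟩ hzp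
  have hzq : z ∈ q := hle hzc
  have hrest : ∑ q' ∈ Finset.univ.erase (⟨q, hqQ⟩ : Q), g q'.1 q'.2 ^ e q' ∈ q := Submodule.sum_mem _ fun q' hq' =>
    Ideal.pow_mem_of_mem _ (hgq' q'.1 q'.2 q hqQ fun h => (Finset.mem_erase.1 hq').1 (Subtype.ext h.symm)) _ (he0 q')
  have hzsum : z = g q hqQ ^ e ⟨q, hqQ⟩ + ∑ q' ∈ Finset.univ.erase (⟨q, hqQ⟩ : Q), g q'.1 q'.2 ^ e q' :=
    (Finset.add_sum_erase _ _ (Finset.mem_univ _)).symm
  rw [hzsum, Ideal.add_mem_iff_left _ hrest] at hzq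
  exact hgq q hqQ ((hprime q hqQ).mem_of_pow_mem _ hzq)

end Groth.Agent.GrAvoid
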